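import Cfsg.Agent.Lib.CharP.PushQd.Split

/-!
An automorphism of the Sylow group not coming from the group forces the centraliser of the central involution in
the core to be abelian.
-/

set_option autoImplicit false
set_option linter.unusedSectionVars false

namespace Cfsg.Agent.CharP.PushQd

open Subgroup Cfsg.Agent.Classical.GL2 Matrix PushOne
open scoped MatrixGroups commutatorElement

variable {G : Type*} [Group G] [Finite G] {p : ℕ} [hp : Fact p.Prime]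
  {F : Type} [Field F] [Fintype F] {S : Subgroup G} {φ : G →* PSL(2, F)}
  {ρ : G →* SL(2, F)} {z : G} {W R M : Subgroup G} {f : ↥W →* Multiplicative (Fin 2 → F)}

/-- The image under an automorphism of `S`. -/
def img (e : ↥S ≃* ↥S) (N : Subgroup G) : Subgroup G :=
  ((N.subgroupOf S).map e.toMonoidHom).map S.subtype

theorem mem_img {e : ↥S ≃* ↥S} {N : Subgroup G} {a : G} :
    a ∈ img e N ↔ ∃ x : ↥S, (x : G) ∈ N ∧ (e x : G) = a := by
  constructor
  · rintro ⟨_, ⟨x, hx, rfl⟩, rfl⟩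
    exact ⟨x, mem_subgroupOf.1 hx, rfl⟩
  · rintro ⟨x, hx, rfl⟩
    exact ⟨e x, ⟨x, mem_subgroupOf.2 hx, rfl⟩, rfl⟩

/-- The forbidden behaviour. -/
structure Outer (p : ℕ) (S W : Subgroup G) (e : ↥S ≃* ↥S) : Prop where
  moves : ∀ N : Subgroup G, N.Normal → N ≤ S → (∀ x : ↥S, (x : G) ∈ N → (e x : G) ∈ N) → N = ⊥
  conj : ∀ y : G, (∀ a ∈ img e (PushingUpCL.omegaCore p G), y * a * y⁻¹ ∈ img e (PushingUpCL.omegaCore p G)) →
    ∀ a ∈ img e W, y * a * y⁻¹ ∈ img e W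
  small : ∀ y : G, (∀ a ∈ img e W, y * a = a * y) → y ∈ S

theorem comm_mul_mul {x1 x2 r1 r2 : G} (h1 : Commute x1 r2) (h2 : Commute r1 x2) (h3 : Commute x1 r1)
    (h4 : Commute x2 r2) : ⁅x1 * r1, x2 * r2⁆ = ⁅x1, x2⁆ * ⁅r1, r2⁆ := by
  have a1 : Commute x1 ⁅r1, r2⁆ := by
    rw [commutatorElement_def]; exact ((h3.mul_right h1).mul_right h3.inv_right).mul_right h1.inv_right
  have a2 : Commute x2 ⁅r1, r2⁆ := by
    rw [commutatorElement_def]
    exact ((h2.symm.mul_right h4).mul_right h2.symm.inv_right).mul_right h4.inv_right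
  rw [commutatorElement_mul_left_eq_conj_mul, commutatorElement_mul_right_eq_mul_conj,
    commutatorElement_mul_right_eq_mul_conj, commutatorElement_eq_one_iff_mul_comm.2 h2.eq,
    commutatorElement_eq_one_iff_mul_comm.2 h1.eq, one_mul, mul_one, mul_inv_cancel_right,
    show x2 * ⁅r1, r2⁆ * x2⁻¹ = ⁅r1, r2⁆ by rw [a2.eq, mul_inv_cancel_right],
    show x1 * ⁅r1, r2⁆ * x1⁻¹ = ⁅r1, r2⁆ by rw [a1.eq, mul_inv_cancel_right]]
  exact ((((show Commute x1 ⁅r1, r2⁆ from a1).mul_left a2).mul_left a1.inv_left).mul_left a2.inv_left).eq.symm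

/-- The centraliser part is abelian. -/
theorem abelian (h : Sit p F S φ) (sp : Split p F S ρ z W R M f) (hp5 : 5 ≤ p) {e : ↥S ≃* ↥S}
    (ho : Outer p S W e) : ∀ a ∈ R, ∀ b ∈ R, a * b = b * a := by
  set V := PushingUpCL.omegaCore p G with hVd
  set Q := Cfsg.pCore p G with hQd
  haveI := sp.Wn
  haveI := sp.Rn
  have hQS : Q ≤ S := sp.QS
  have hWS : W ≤ S := sp.WQ.trans hQS
  have hRS : R ≤ S := sp.RQ.trans hQS
  choose u huM huS huρ using sp.lifts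
  have huniq : ∀ m ∈ M, ∀ m' ∈ M, ρ m = ρ m' → m = m' := fun m hm m' hm' he => by
    have h1 : m⁻¹ * m' ∈ M ⊓ Q := mem_inf.2 ⟨mul_mem (inv_mem hm) hm',
      sp.ker.le (show m⁻¹ * m' ∈ ρ.ker by rw [MonoidHom.mem_ker, map_mul, map_inv, he, inv_mul_cancel])⟩
    rw [sp.Mbot, mem_bot] at h1
    exact inv_mul_eq_one.1 h1
  have huadd : ∀ a b, u a * u b = u (a + b) := fun a b =>
    huniq _ (mul_mem (huM a) (huM b)) _ (huM _) (by rw [map_mul, huρ, huρ, huρ, uniSL_mul])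
  have hu0 : u 0 = 1 := huniq _ (huM 0) _ (one_mem M) (by rw [huρ, map_one, uniSL_zero])
  -- coordinates
  have hdecS : ∀ x ∈ S, ∃ (w : ↥W) (a : F) (r : G), r ∈ R ∧ x = (w : G) * u a * r := fun x hx => by
    obtain ⟨a, ha⟩ := sp.uni x hx
    have hq : x * (u a)⁻¹ ∈ Q := sp.ker.le (show x * (u a)⁻¹ ∈ ρ.ker by
      rw [MonoidHom.mem_ker, map_mul, map_inv, huρ, ha, mul_inv_cancel])
    obtain ⟨w, hw, r, hr, e1⟩ := exists_mul (le_nz R) (sp.QWR hq)
    exact ⟨⟨w, hw⟩, a, r, hr, by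
      rw [show x = x * (u a)⁻¹ * u a by group, e1, mul_assoc w r, ← sp.Mc _ (huM a) r hr, ← mul_assoc]⟩
  have hER : ∀ (w : ↥W) a, ∀ r ∈ R, Commute ((w : G) * u a) r := fun w a r hr =>
    Commute.mul_left (sp.Wc w w.2 r (sp.RQ hr)).symm (sp.Mc _ (huM a) r hr)
  have hWR : ∀ {x : G}, x ∈ W → x ∈ R → x = 1 := fun hw hr => mem_bot.1 (sp.WR.le (mem_inf.2 ⟨hw, hr⟩))
  have hrr : ∀ {r1 r2 : G}, r1 ∈ R → r2 ∈ R → ⁅r1, r2⁆ ∈ R := fun hr1 hr2 =>
    comm_le_left le_normalizer (commutator_mem_commutator hr1 hr2)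
  let χ : ↥W → (Fin 2 → F) := fun w => (f w).toAdd
  have χinj : Function.Injective χ := Multiplicative.toAdd.injective.comp sp.fbij.1
  have χsurj : Function.Surjective χ := Multiplicative.toAdd.surjective.comp sp.fbij.2
  have χmul : ∀ v w, χ (v * w) = χ v + χ w := fun v w => by simp [χ]
  have χinv : ∀ v, χ v⁻¹ = -χ v := fun v => by simp [χ]
  have χone : χ 1 = 0 := by simp [χ]
  have χu : ∀ a (w : ↥W), χ ⟨u a * w * (u a)⁻¹, conj_mem w.2 _⟩ = ![χ w 0 + a * χ w 1, χ w 1] := by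
    intro a w
    show (f _).toAdd = _
    rw [sp.fact (u a) w _ rfl, huρ]
    funext i
    fin_cases i <;> simp [χ, coe_uniSL, Matrix.mulVec, dotProduct, Fin.sum_univ_two]
  have hWc2 : ∀ v : ↥W, ∀ w : ↥W, (v : G) * w = w * v := fun v w => (sp.Wc v v.2 w (sp.WQ w.2)).symm
  have hee : ∀ (v w : ↥W) (a b : F), ∃ c : ↥W, (c : G) = ⁅(v : G) * u a, (w : G) * u b⁆ ∧
      χ c = ![a * χ w 1 - b * χ v 1, 0] := by
    intro v w a b
    refine ⟨v * ⟨u a * w * (u a)⁻¹, conj_mem w.2 _⟩ * ⟨u b * v * (u b)⁻¹, conj_mem v.2 _⟩⁻¹ * w⁻¹, ?_, ?_⟩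
    · have hab : u b * u a = u a * u b := by rw [huadd, huadd, add_comm]
      show (v : G) * (u a * w * (u a)⁻¹) * (u b * v * (u b)⁻¹)⁻¹ * (w : G)⁻¹ = _
      rw [commutatorElement_def]
      calc (v : G) * (u a * w * (u a)⁻¹) * (u b * v * (u b)⁻¹)⁻¹ * (w : G)⁻¹
          = (v : G) * u a * w * ((u a)⁻¹ * u b) * (v : G)⁻¹ * (u b)⁻¹ * (w : G)⁻¹ := by group
        _ = (v : G) * u a * w * (u b * (u a)⁻¹) * (v : G)⁻¹ * (u b)⁻¹ * (w : G)⁻¹ := by
          rw [(show Commute (u b) (u a) from hab).inv_right.eq]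
        _ = _ := by group
    · rw [χmul, χmul, χmul, χinv, χinv, χu, χu]
      funext i
      fin_cases i <;> simp [Matrix.vecHead, Matrix.vecTail] <;> ring
  have hcomm : ∀ (v w : ↥W) (a b : F) (r1 r2 : G), r1 ∈ R → r2 ∈ R →
      ⁅(v : G) * u a * r1, (w : G) * u b * r2⁆ = ⁅(v : G) * u a, (w : G) * u b⁆ * ⁅r1, r2⁆ :=
    fun v w a b r1 r2 hr1 hr2 => comm_mul_mul (hER v a r2 hr2) (hER w b r1 hr1).symm (hER v a r1 hr1)
      (hER w b r2 hr2)
  have hee1 : ∀ (v w : ↥W) (a b : F), a * χ w 1 - b * χ v 1 = 0 → ⁅(v : G) * u a, (w : G) * u b⁆ = 1 := by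
    intro v w a b he
    obtain ⟨c, hc, hχ⟩ := hee v w a b
    rw [← hc, show c = 1 from χinj (by rw [hχ, he, χone]; funext i; fin_cases i <;> simp)]
    rfl
  have hee0 : ∀ (v w : ↥W) (a b : F), ⁅(v : G) * u a, (w : G) * u b⁆ ∈ R → a * χ w 1 - b * χ v 1 = 0 := by
    intro v w a b he
    obtain ⟨c, hc, hχ⟩ := hee v w a b
    rw [← hc] at he
    have h1 : c = 1 := Subtype.ext (hWR c.2 he)
    rw [h1, χone] at hχ
    simpa using (congrFun hχ 0).symm
  -- the line in `W`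
  let ΩW : Subgroup G :=
    { carrier := {x | ∃ w : ↥W, (w : G) = x ∧ χ w 1 = 0}
      one_mem' := ⟨1, rfl, by rw [χone]; rfl⟩
      mul_mem' := by
        rintro _ _ ⟨v, rfl, hv⟩ ⟨w, rfl, hw⟩
        exact ⟨v * w, rfl, by rw [χmul, Pi.add_apply, hv, hw, add_zero]⟩
      inv_mem' := by
        rintro _ ⟨v, rfl, hv⟩
        exact ⟨v⁻¹, rfl, by rw [χinv, Pi.neg_apply, hv, neg_zero]⟩ }
  have hΩW : ΩW ≤ W := by rintro _ ⟨w, rfl, -⟩; exact w.2
  have hΩc : ∀ x ∈ ΩW, ∀ y ∈ S, y * x = x * y := by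
    rintro _ ⟨w, rfl, hw⟩ y hy
    obtain ⟨v, b, r, hr, rfl⟩ := hdecS y hy
    have h1 := hcomm w v 0 b 1 r (one_mem R) hr
    rw [hu0, mul_one, mul_one, commutatorElement_one_left, mul_one] at h1
    have h2 : ⁅((w : G) * u 0), ((v : G) * u b)⁆ = 1 := hee1 w v 0 b (by rw [hw]; ring)
    rw [hu0, mul_one] at h2
    rw [h2] at h1
    exact (commutatorElement_eq_one_iff_mul_comm.1 h1).symm
  have hWcomm : ∀ x ∈ W, ∀ y ∈ S, ⁅x, y⁆ ∈ ΩW := fun x hx y hy => by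
    obtain ⟨v, b, r, hr, rfl⟩ := hdecS y hy
    have h1 := hcomm ⟨x, hx⟩ v 0 b 1 r (one_mem R) hr
    obtain ⟨c, hc, hχ⟩ := hee ⟨x, hx⟩ v 0 b
    rw [hu0, mul_one] at hc
    rw [hu0, mul_one, mul_one, commutatorElement_one_left, mul_one, ← hc] at h1
    exact ⟨c, h1.symm, by rw [hχ]; rfl⟩
  have hcentral : ∀ c ∈ S, c ∈ centralizer (S : Set G) →
      ∃ (w : ↥W) (r : G), r ∈ R ∧ χ w 1 = 0 ∧ c = (w : G) * r := fun c hcS hc => by
    obtain ⟨w, a, r, hr, rfl⟩ := hdecS c hcS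
    obtain ⟨v1, hv1⟩ := χsurj ![0, 1]
    have k1 := hcomm w v1 a 0 r 1 hr (one_mem R)
    rw [commutatorElement_one_right, mul_one, mul_one, hu0, mul_one,
      commutatorElement_eq_one_iff_mul_comm.2 (hc _ (hWS v1.2)).symm] at k1
    have e1 := hee0 w v1 a 0 (by rw [hu0, mul_one, ← k1]; exact one_mem _)
    have ha : a = 0 := by simpa [hv1] using e1
    subst ha
    have k2 := hcomm w 1 0 1 r 1 hr (one_mem R)
    rw [commutatorElement_one_right, mul_one, mul_one, OneMemClass.coe_one, one_mul,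
      commutatorElement_eq_one_iff_mul_comm.2 (hc _ (huS 1)).symm] at k2
    have e2 := hee0 w 1 0 1 (by rw [OneMemClass.coe_one, one_mul, ← k2]; exact one_mem _)
    exact ⟨w, r, hr, by simpa using e2, by rw [hu0, mul_one]⟩
  by_cases hbr : ∀ x : ↥S, (x : G) ∈ W → ∃ (w : ↥W) (r : G), r ∈ R ∧ χ w 1 = 0 ∧ (e x : G) = (w : G) * r
  · -- the image lies in `R`
    exfalso
    have hsymm : ∀ c : ↥S, (c : G) ∈ centralizer (S : Set G) → (e.symm c : G) ∈ centralizer (S : Set G) := by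
      intro c hc y hy
      have h1 : e ⟨y, hy⟩ * c = c * e ⟨y, hy⟩ := Subtype.ext (hc _ (e ⟨y, hy⟩).2)
      have h2 := congrArg (fun t : ↥S => ((e.symm t : ↥S) : G)) h1
      simpa using h2
    have hV : ∀ c : ↥S, (c : G) ∈ centralizer (S : Set G) → (c : G) ∈ img e V := fun c hc =>
      mem_img.2 ⟨e.symm c, h.mem_omega (e.symm c).2 (hsymm c hc) (sp.expS _ (e.symm c).2),
        by rw [MulEquiv.apply_symm_apply]⟩
    have hVR : ∀ r ∈ R, r ∈ V → r ∈ centralizer (S : Set G) := fun r hr hrV y hy => by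
      obtain ⟨v, b, r', hr', rfl⟩ := hdecS y hy
      exact ((hER v b r hr).mul_left (show Commute r' r from hrV.2.1 r' (sp.RQ hr'))).eq
    have heV : ∀ x : ↥S, (x : G) ∈ V → ∃ (w : ↥W) (r : G), r ∈ R ∧ χ w 1 = 0 ∧ (e x : G) = (w : G) * r := by
      intro x hx
      obtain ⟨w, hw, r, hr, e1⟩ := exists_mul (le_nz R) (sp.QWR hx.1)
      have hrV : r ∈ V := by
        have := mul_mem (inv_mem (sp.WV hw)) hx
        rwa [e1, inv_mul_cancel_left] at this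
      obtain ⟨w1, r1, hr1, hw1, he1⟩ := hbr ⟨w, hWS hw⟩ hw
      have hc : (e ⟨r, hRS hr⟩ : G) ∈ centralizer (S : Set G) := fun y hy => by
        have h1 : e.symm ⟨y, hy⟩ * ⟨r, hRS hr⟩ = ⟨r, hRS hr⟩ * e.symm ⟨y, hy⟩ :=
          Subtype.ext (hVR r hr hrV _ (e.symm ⟨y, hy⟩).2)
        have h2 := congrArg (fun t : ↥S => ((e t : ↥S) : G)) h1
        simpa using h2
      obtain ⟨w2, r2, hr2, hw2, he2⟩ := hcentral _ (e ⟨r, hRS hr⟩).2 hc
      refine ⟨w1 * w2, r1 * r2, mul_mem hr1 hr2, by rw [χmul, Pi.add_apply, hw1, hw2, add_zero], ?_⟩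
      rw [show x = (⟨w, hWS hw⟩ : ↥S) * ⟨r, hRS hr⟩ from Subtype.ext e1, map_mul, coe_mul, he1, he2,
        coe_mul, mul_assoc (w1 : G) r1, ← mul_assoc r1 (w2 : G),
        show r1 * (w2 : G) = w2 * r1 from sp.Wc w2 w2.2 r1 (sp.RQ hr1)]
      group
    have hzconj : ∀ (w : ↥W) (r : G), r ∈ R → z * ((w : G) * r) * z⁻¹ = (w : G)⁻¹ * r := fun w r hr => by
      rw [show z * ((w : G) * r) * z⁻¹ = z * w * z⁻¹ * (z * r * z⁻¹) by group, sp.zw _ w.2, sp.zc r hr,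
        mul_inv_cancel_right]
    have hzV : ∀ a ∈ img e V, z * a * z⁻¹ ∈ img e V := by
      intro a ha
      obtain ⟨x, hx, rfl⟩ := mem_img.1 ha
      obtain ⟨w, r, hr, hw, e1⟩ := heV x hx
      rw [e1, hzconj w r hr]
      have hc : ((w : G)⁻¹ * (w : G)⁻¹) ∈ img e V := by
        refine hV ⟨_, mul_mem (inv_mem (hWS w.2)) (inv_mem (hWS w.2))⟩ ?_
        exact mul_mem (inv_mem (fun y hy => hΩc _ ⟨w, rfl, hw⟩ y hy))
          (inv_mem (fun y hy => hΩc _ ⟨w, rfl, hw⟩ y hy))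
      rw [show (w : G)⁻¹ * r = (w : G)⁻¹ * (w : G)⁻¹ * ((w : G) * r) by group, ← e1]
      exact mul_mem hc (mem_img.2 ⟨x, hx, rfl⟩)
    have hzW := ho.conj z hzV
    have heR : ∀ a ∈ img e W, a ∈ R := by
      intro a ha
      have ha' := ha
      obtain ⟨x, hx, rfl⟩ := mem_img.1 ha'
      obtain ⟨w, r, hr, hw, e1⟩ := hbr x hx
      have h1 := mul_mem ha (inv_mem (hzW _ ha))
      rw [e1, hzconj w r hr] at h1
      rw [show (w : G) * r * ((w : G)⁻¹ * r)⁻¹ = (w : G) * (w : G) by group] at h1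
      obtain ⟨x2, hx2, hx2e⟩ := mem_img.1 h1
      have hc : (x2 : G) ∈ centralizer (S : Set G) := by
        have h2 : (e x2 : G) ∈ centralizer (S : Set G) := by
          rw [hx2e]
          exact mul_mem (fun y hy => hΩc _ ⟨w, rfl, hw⟩ y hy) (fun y hy => hΩc _ ⟨w, rfl, hw⟩ y hy)
        simpa using hsymm (e x2) h2
      -- a commutator form for the preimage
      obtain ⟨v1, hv1⟩ := χsurj ![0, 1]
      obtain ⟨w0, r0, hr0, hw0, hx20⟩ := hcentral _ x2.2 hc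
      have hr00 : r0 = 1 := hWR (by
        have := mul_mem (inv_mem w0.2) hx2
        rwa [hx20, inv_mul_cancel_left] at this) hr0
      rw [hr00, mul_one] at hx20
      obtain ⟨c, hc', hχ⟩ := hee v1 1 0 (-(χ w0 0))
      have hcw : c = w0 := χinj (by rw [hχ, hv1]; funext i; fin_cases i <;> simp [hw0])
      rw [hcw, hu0, mul_one, OneMemClass.coe_one, one_mul] at hc'
      have e2 : x2 = ⁅(⟨(v1 : G), hWS v1.2⟩ : ↥S), (⟨u (-(χ w0 0)), huS _⟩ : ↥S)⁆ :=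
        Subtype.ext (hx20.trans hc')
      obtain ⟨w3, r3, hr3, hw3, e3⟩ := hbr ⟨(v1 : G), hWS v1.2⟩ v1.2
      obtain ⟨w4, a4, r4, hr4, e4⟩ := hdecS _ (e ⟨u (-(χ w0 0)), huS _⟩).2
      have k := hcomm w3 w4 0 a4 r3 r4 hr3 hr4
      rw [hee1 w3 w4 0 a4 (by rw [hw3]; ring), one_mul, hu0, mul_one, ← e3, ← e4] at k
      have k2 : (w : G) * w ∈ R := by
        rw [← hx2e, e2, map_commutatorElement]
        show ⁅(e _ : G), (e _ : G)⁆ ∈ R
        rw [k]
        exact hrr hr3 hr4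
      have h5 := hWR (mul_mem w.2 w.2) k2
      have h6 : (w : G) = 1 := by
        have h8 : orderOf (w : G) ∣ 2 := orderOf_dvd_of_pow_eq_one (by rw [pow_two]; exact h5)
        have h9 : orderOf (w : G) ∣ p := orderOf_dvd_of_pow_eq_one (sp.expS _ (hWS w.2))
        exact orderOf_eq_one_iff.1 (Nat.Coprime.eq_one_of_dvd
          (Nat.Coprime.coprime_dvd_left h8 ((Nat.coprime_primes Nat.prime_two hp.out).2 (by omega))) h9)
      rw [e1, h6, one_mul]; exact hr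
    have hMS : M ≤ S := fun m hm => ho.small m fun a ha => sp.Mc m hm a (heR a ha)
    obtain ⟨m, hm, hmρ⟩ := sp.Mtop.ge (mem_top (lowSL (1 : F)))
    obtain ⟨t, ht⟩ := sp.uni m (hMS hm)
    have h1 := congrArg (fun A : SL(2, F) => A.1 1 0) (hmρ.symm.trans ht)
    simp [coe_lowSL, coe_uniSL] at h1
  · -- the derived group of `R` is invariant
    push Not at hbr
    obtain ⟨x0, hx0, hx0e⟩ := hbr
    obtain ⟨w1, a1, r1, hr1, e1⟩ := hdecS _ (e x0).2
    have hne : a1 ≠ 0 ∨ χ w1 1 ≠ 0 := by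
      by_contra hno
      push Not at hno
      refine hx0e w1 r1 hr1 hno.2 ?_
      rw [e1, hno.1, hu0, mul_one]
    set RR := ⁅R, R⁆ with hRR
    have hRRS : RR ≤ S := (comm_le_left le_normalizer).trans hRS
    haveI : RR.Normal := inferInstance
    have hpair : ∀ r : G, (hr : r ∈ R) → ∃ (w : ↥W) (a : F) (r' : G), r' ∈ R ∧
        (e ⟨r, hRS hr⟩ : G) = (w : G) * u a * r' ∧ a * χ w1 1 - a1 * χ w 1 = 0 := fun r hr => by
      obtain ⟨w, a, r', hr', e2⟩ := hdecS _ (e ⟨r, hRS hr⟩).2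
      refine ⟨w, a, r', hr', e2, hee0 w w1 a a1 ?_⟩
      have hc0 : ⁅(⟨r, hRS hr⟩ : ↥S), x0⁆ = 1 := commutatorElement_eq_one_iff_mul_comm.2
        (Subtype.ext (sp.Wc _ hx0 r (sp.RQ hr)))
      have h2 := congrArg (fun t : ↥S => ((e t : ↥S) : G)) hc0
      simp only [map_commutatorElement, map_one] at h2
      have h3 : ⁅(e ⟨r, hRS hr⟩ : G), (e x0 : G)⁆ = 1 := h2
      rw [e2, e1, hcomm w w1 a a1 r' r1 hr' hr1] at h3
      rw [eq_inv_of_mul_eq_one_left h3]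
      exact inv_mem (hrr hr' hr1)
    have hle : RR ≤ ((RR.subgroupOf S).comap e.toMonoidHom).map S.subtype := commutator_le.2 fun r hr r' hr' => by
      refine ⟨⁅(⟨r, hRS hr⟩ : ↥S), (⟨r', hRS hr'⟩ : ↥S)⁆, ?_, rfl⟩
      show e _ ∈ RR.subgroupOf S
      rw [mem_subgroupOf]
      obtain ⟨w, a, s, hs, e2, k2⟩ := hpair r hr
      obtain ⟨w', a', s', hs', e3, k3⟩ := hpair r' hr'
      have hk : a * χ w' 1 - a' * χ w 1 = 0 := by
        rcases hne with hn | hn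
        · refine (mul_eq_zero.1 (?_ : a1 * (a * χ w' 1 - a' * χ w 1) = 0)).resolve_left hn
          linear_combination a' * k2 - a * k3
        · refine (mul_eq_zero.1 (?_ : χ w1 1 * (a * χ w' 1 - a' * χ w 1) = 0)).resolve_left hn
          linear_combination χ w' 1 * k2 - χ w 1 * k3
      show (e ⁅(⟨r, hRS hr⟩ : ↥S), ⟨r', hRS hr'⟩⁆ : G) ∈ RR
      rw [map_commutatorElement]
      show ⁅(e ⟨r, hRS hr⟩ : G), (e ⟨r', hRS hr'⟩ : G)⁆ ∈ RR
      rw [e2, e3, hcomm w w' a a' s s' hs hs', hee1 w w' a a' hk, one_mul]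
      exact commutator_mem_commutator hs hs'
    have hbot := ho.moves RR inferInstance hRRS fun x hx => by
      obtain ⟨y, hy, hye⟩ := hle hx
      obtain rfl : y = x := Subtype.ext hye
      exact mem_subgroupOf.1 hy
    intro a ha b hb
    exact commutatorElement_eq_one_iff_mul_comm.1 (mem_bot.1 (hbot ▸ commutator_mem_commutator ha hb))

end Cfsg.Agent.CharP.PushQd
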