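import Cfsg.Agent.Lib.CharP.PushQd.Abelian
import Cfsg.Agent.Lib.CharP.QdBasic
import Cfsg.Agent.Lib.Cores.Basic
import Cfsg.Prelude.Def_TwoFusion

/-!
A maximal `p`-local subgroup over `PSL(2, F)` which is not pushed up is `Qd(F)` times an elementary abelian group.
-/

set_option autoImplicit false
set_option linter.unusedSectionVars false
set_option linter.style.haveILetI false

namespace Cfsg.Agent.CharP.PushQd

open Subgroup Cfsg.Agent.Classical.GL2 Matrix PushOne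
open scoped MatrixGroups commutatorElement

variable {H : Type*} [Group H] [Finite H] {p : ℕ} [hp : Fact p.Prime]

/-- The decomposition of a split situation with abelian centraliser part. -/
theorem product {K : Type*} [Group K] [Finite K] {F : Type} [Field F] [Fintype F] {S : Subgroup K}
    {ρ : K →* SL(2, F)} {z : K} {W R M : Subgroup K} {f : ↥W →* Multiplicative (Fin 2 → F)}
    (sp : Split p F S ρ z W R M f) (hab : ∀ a ∈ R, ∀ b ∈ R, a * b = b * a) :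
    Cfsg.IsInternalDirectProduct (W ⊔ M) R ⊤ ∧ Cfsg.IsElementaryAbelian p R ∧
      Nonempty (↥(W ⊔ M) ≃* ↥(Cfsg.qdOver F)) := by
  haveI := sp.Wn
  haveI := sp.Rn
  have hWM : ∀ {x : K}, x ∈ W ⊔ M → ∃ w ∈ W, ∃ m ∈ M, x = w * m := fun {x} hx => by
    rw [← SetLike.mem_coe, coe_mul_of_right_le_normalizer_left _ _ (le_nz W)] at hx
    obtain ⟨w, hw, m, hm, e⟩ := hx
    exact ⟨w, hw, m, hm, e.symm⟩
  have hk : ∀ {x : K}, x ∈ Cfsg.pCore p K → ρ x = 1 := fun hx => sp.ker.ge hx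
  have hM1 : ∀ {m : K}, m ∈ M → ρ m = 1 → m = 1 := fun {m} hm e => by
    have : m ∈ M ⊓ Cfsg.pCore p K := mem_inf.2 ⟨hm, sp.ker.le e⟩
    rwa [sp.Mbot, mem_bot] at this
  refine ⟨⟨le_top, le_top, fun a ha b hb => ?_, ?_, ?_⟩, ?_, ?_⟩
  · obtain ⟨w, hw, m, hm, rfl⟩ := hWM ha
    exact ((show Commute w b from (sp.Wc w hw b (sp.RQ hb)).symm).mul_left (sp.Mc m hm b hb)).eq
  · rw [eq_bot_iff]
    rintro x ⟨hx, hxR⟩
    obtain ⟨w, hw, m, hm, rfl⟩ := hWM hx
    have h1 : m = 1 := hM1 hm (by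
      have := hk (sp.RQ hxR)
      rwa [map_mul, hk (sp.WQ hw), one_mul] at this)
    rw [h1, mul_one] at hxR ⊢
    exact sp.WR.le (mem_inf.2 ⟨hw, hxR⟩)
  · refine eq_top_iff.2 fun x _ => ?_
    obtain ⟨m, hm, e⟩ := sp.Mtop.ge (mem_top (ρ x))
    have hq : m⁻¹ * x ∈ Cfsg.pCore p K := sp.ker.le (show m⁻¹ * x ∈ ρ.ker by
      rw [MonoidHom.mem_ker, map_mul, map_inv, e, inv_mul_cancel])
    rw [show x = m * (m⁻¹ * x) by group]
    exact mul_mem (mem_sup_left (mem_sup_right hm))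
      ((sup_le (le_sup_of_le_left le_sup_left) le_sup_right : W ⊔ R ≤ W ⊔ M ⊔ R) (sp.QWR hq))
  · exact ⟨⟨⟨fun a b => Subtype.ext (hab a a.2 b b.2)⟩⟩, fun a ha => sp.expS a (sp.QS (sp.RQ ha))⟩
  · have hlift : ∀ A : SL(2, F), ∃ m ∈ M, ρ m = A := fun A => sp.Mtop.ge (mem_top A)
    choose s hsM hsρ using hlift
    have huniq : ∀ m ∈ M, s (ρ m) = m := fun m hm => by
      have := hM1 (mul_mem (inv_mem (hsM (ρ m))) hm) (by rw [map_mul, map_inv, hsρ, inv_mul_cancel])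
      exact inv_mul_eq_one.1 this
    have hsmul : ∀ A B, s A * s B = s (A * B) := fun A B => by
      rw [← huniq _ (mul_mem (hsM A) (hsM B)), map_mul, hsρ, hsρ]
    let fe : ↥W ≃* Multiplicative (Fin 2 → F) := MulEquiv.ofBijective f sp.fbij
    let τ : (Fin 2 → F) → K := fun x => (fe.symm (Multiplicative.ofAdd x) : K)
    have hτW : ∀ x, τ x ∈ W := fun x => (fe.symm (Multiplicative.ofAdd x)).2
    have hτadd : ∀ x y, τ x * τ y = τ (x + y) := fun x y => by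
      show _ = ((fe.symm (Multiplicative.ofAdd (x + y)) : ↥W) : K)
      rw [ofAdd_add, map_mul]
      rfl
    have hconj : ∀ A x, s A * τ x * (s A)⁻¹ = τ (A.1 *ᵥ x) := fun A x => by
      have h1 := sp.fact (s A) (fe.symm (Multiplicative.ofAdd x)) ⟨_, conj_mem (hτW x) (s A)⟩ rfl
      rw [hsρ] at h1
      have h2 : f (fe.symm (Multiplicative.ofAdd x)) = Multiplicative.ofAdd x := fe.apply_symm_apply _
      rw [h2, toAdd_ofAdd] at h1
      show _ = ((fe.symm (Multiplicative.ofAdd (A.1 *ᵥ x)) : ↥W) : K)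
      rw [← h1, ofAdd_toAdd]
      show _ = ((fe.symm (fe ⟨_, conj_mem (hτW x) (s A)⟩) : ↥W) : K)
      rw [MulEquiv.symm_apply_apply]
    let Ψ : ↥(Cfsg.qdOver F) →* K := MonoidHom.mk'
      (fun X => τ (QdBasic.coord.symm X).2 * s (QdBasic.coord.symm X).1) fun X Y => by
        obtain ⟨A, x, rfl⟩ := QdBasic.exists_el X
        obtain ⟨B, y, rfl⟩ := QdBasic.exists_el Y
        rw [QdBasic.el_mul, QdBasic.coord_symm_el, QdBasic.coord_symm_el, QdBasic.coord_symm_el]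
        show τ (x + A.1 *ᵥ y) * s (A * B) = τ x * s A * (τ y * s B)
        rw [← hsmul, ← hτadd, ← hconj]
        group
    have hΨel : ∀ A x, Ψ (QdBasic.el A x) = τ x * s A := fun A x => by
      show τ (QdBasic.coord.symm (QdBasic.el A x)).2 * s (QdBasic.coord.symm (QdBasic.el A x)).1 = _
      rw [QdBasic.coord_symm_el]
    have hτ1 : ∀ x, τ x = 1 → x = 0 := fun x e => by
      have h1 : fe.symm (Multiplicative.ofAdd x) = 1 := Subtype.ext e
      rw [MulEquiv.symm_apply_eq, map_one, ofAdd_eq_one] at h1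
      exact h1
    have hs1 : s 1 = 1 := by
      have := huniq 1 (one_mem M)
      rwa [map_one] at this
    have hinj : Function.Injective Ψ := (injective_iff_map_eq_one Ψ).2 fun X hX => by
      obtain ⟨A, x, rfl⟩ := QdBasic.exists_el X
      rw [hΨel] at hX
      have h1 := congrArg ρ hX
      rw [map_mul, hk (sp.WQ (hτW x)), one_mul, hsρ, map_one] at h1
      subst h1
      rw [hs1, mul_one] at hX
      rw [hτ1 x hX, QdBasic.el_one]
    have hrange : Ψ.range = W ⊔ M := by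
      refine le_antisymm ?_ (sup_le (fun w hw => ?_) fun m hm => ?_)
      · rintro _ ⟨X, rfl⟩
        obtain ⟨A, x, rfl⟩ := QdBasic.exists_el X
        rw [hΨel]
        exact mul_mem (mem_sup_left (hτW x)) (mem_sup_right (hsM A))
      · refine ⟨QdBasic.el 1 (fe ⟨w, hw⟩).toAdd, ?_⟩
        rw [hΨel, hs1, mul_one]
        show ((fe.symm (Multiplicative.ofAdd (fe ⟨w, hw⟩).toAdd) : ↥W) : K) = w
        rw [ofAdd_toAdd, MulEquiv.symm_apply_apply]
      · refine ⟨QdBasic.el (ρ m) 0, ?_⟩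
        rw [hΨel, huniq m hm]
        show ((fe.symm (Multiplicative.ofAdd 0) : ↥W) : K) * m = m
        rw [ofAdd_zero, map_one, OneMemClass.coe_one, one_mul]
    exact ⟨((MonoidHom.ofInjective hinj).trans (MulEquiv.subgroupCongr hrange)).symm⟩

/-- The main statement. -/
theorem main (hp5 : 5 ≤ p) (G : Subgroup H)
    (hmax : ∀ R : Subgroup H, IsPGroup p ↥R → R ≠ ⊥ → G ≤ normalizer (R : Set H) →
      normalizer (R : Set H) = G)
    (S : Sylow p ↥G) (hE₁ : centralizer (Cfsg.pCore p ↥G : Set ↥G) ≤ Cfsg.pCore p ↥G)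
    (hE₂ : ∃! M : Subgroup ↥G, IsCoatom M ∧ (S : Subgroup ↥G) ≤ M) (K : Subgroup ↥G) [K.Normal]
    (F : Type) [Field F] [Fintype F] (n : ℕ) (hn : 1 ≤ n) (hF : Fintype.card F = p ^ n)
    (hE₃ : Nonempty (↥G ⧸ K ≃* PSL(2, F)))
    (hN : ¬ normalizer (((S : Subgroup ↥G).map G.subtype : Subgroup H) : Set H) ≤ G) :
    ∃ G₀ E : Subgroup H, Cfsg.IsInternalDirectProduct G₀ E G ∧ Cfsg.IsElementaryAbelian p E ∧
      Nonempty (↥G₀ ≃* ↥(Cfsg.qdOver F)) := by
  obtain ⟨σ, hσ, hσG⟩ := Set.not_subset.1 hN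
  set S' : Subgroup H := (S : Subgroup ↥G).map G.subtype with hS'
  let ι : ↥(S : Subgroup ↥G) ≃* ↥S' := equivMapOfInjective _ _ G.subtype_injective
  let e : ↥(S : Subgroup ↥G) ≃* ↥(S : Subgroup ↥G) :=
    ι.trans (((MulEquiv.subgroupMap (MulAut.conj σ) S').trans
      (MulEquiv.subgroupCongr (mem_normalizer_iff_map_conj_eq.1 hσ))).trans ι.symm)
  have hι : ∀ x, ((ι x : ↥S') : H) = ((x : ↥G) : H) := fun x => rfl
  have he : ∀ x, (((e x : ↥(S : Subgroup ↥G)) : ↥G) : H) = σ * ((x : ↥G) : H) * σ⁻¹ := fun x => by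
    rw [← hι (e x)]
    show ((ι (ι.symm _) : ↥S') : H) = _
    rw [MulEquiv.apply_symm_apply]
    rfl
  have hnorm : ∀ N : Subgroup ↥G, N.Normal → N ≤ (S : Subgroup ↥G) → N ≠ ⊥ →
      normalizer ((N.map G.subtype : Subgroup H) : Set H) = G := fun N hNn hNS hN0 => by
    haveI := hNn
    refine hmax _ ((S.isPGroup'.to_le hNS).map _) ?_ ?_
    · rw [Ne, Subgroup.map_eq_bot_iff_of_injective _ G.subtype_injective]; exact hN0
    · calc G = (normalizer (N : Set ↥G)).map G.subtype := by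
            rw [normalizer_eq_top, ← MonoidHom.range_eq_map, range_subtype]
        _ ≤ _ := le_normalizer_map _
  have hmoves : ∀ N : Subgroup ↥G, N.Normal → N ≤ (S : Subgroup ↥G) →
      (∀ x : ↥(S : Subgroup ↥G), (x : ↥G) ∈ N → (e x : ↥G) ∈ N) → N = ⊥ := fun N hNn hNS hinv => by
    by_contra hN0
    refine hσG ((hnorm N hNn hNS hN0).le (mem_normalizer_fintype ?_))
    rintro _ ⟨x, hx, rfl⟩
    exact ⟨_, hinv ⟨x, hNS hx⟩ hx, he ⟨x, hNS hx⟩⟩
  obtain ⟨φ, h⟩ := exists_sit (P := S) hE₁ hE₂ K F n hn hF hE₃ fun T hT hTc hTn => by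
    haveI := hTc
    refine hT ?_
    have h0 := hmoves _ hTn (map_subtype_le T) (fun x hx => by
      obtain ⟨y, hy, hyx⟩ := hx
      obtain rfl : y = x := Subtype.ext hyx
      exact ⟨e y, (characteristic_iff_map_le.1 hTc e) ⟨y, hy, rfl⟩, rfl⟩)
    exact (Subgroup.map_eq_bot_iff_of_injective _ (S : Subgroup ↥G).subtype_injective).1 h0
  obtain ⟨ρ, z, W, R, M, f, sp⟩ := exists_split h hp5 hn hF
  haveI := sp.Wn
  have hWne : W ≠ ⊥ := fun e0 => by
    subst e0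
    obtain ⟨w, hw⟩ := sp.fbij.2 (Multiplicative.ofAdd fun _ => 1)
    rw [show w = 1 from Subsingleton.elim _ _, map_one] at hw
    have := congrFun (congrArg Multiplicative.toAdd hw) 0
    simp at this
  set V := PushingUpCL.omegaCore p ↥G with hVd
  have hWS : W ≤ (S : Subgroup ↥G) := sp.WQ.trans sp.QS
  have hVS : V ≤ (S : Subgroup ↥G) := fun v hv => sp.QS hv.1
  have hVne : V ≠ ⊥ := fun e0 => hWne (bot_unique (sp.WV.trans e0.le))
  have himg : ∀ {N : Subgroup ↥G}, N ≤ (S : Subgroup ↥G) → ∀ {a : ↥G},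
      a ∈ img e N ↔ σ⁻¹ * (a : H) * σ ∈ N.map G.subtype := fun {N} hNS {a} => by
    constructor
    · intro ha
      obtain ⟨x, hx, rfl⟩ := mem_img.1 ha
      exact ⟨x, hx, by rw [he]; show ((x : ↥G) : H) = _; group⟩
    · rintro ⟨x, hx, hxa⟩
      refine mem_img.2 ⟨⟨x, hNS hx⟩, hx, Subtype.ext ?_⟩
      rw [he]
      show σ * G.subtype x * σ⁻¹ = a
      rw [hxa]; group
  have ho : Outer p (S : Subgroup ↥G) W e := by
    refine ⟨hmoves, fun y hy a ha => ?_, fun y hy => ?_⟩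
    · have hy' : σ⁻¹ * (y : H) * σ ∈ G := (hnorm V inferInstance hVS hVne).le (mem_normalizer_fintype (by
        rintro _ ⟨v, hv, rfl⟩
        have h1 : (⟨σ * (v : H) * σ⁻¹, (he ⟨v, hVS hv⟩) ▸ SetLike.coe_mem _⟩ : ↥G) ∈ img e V :=
          (himg hVS).2 ⟨v, hv, by show (v : H) = σ⁻¹ * (σ * (v : H) * σ⁻¹) * σ; group⟩
        obtain ⟨w, hw, e1⟩ := (himg hVS).1 (hy _ h1)
        refine ⟨w, hw, e1.trans ?_⟩
        show σ⁻¹ * ((y : H) * (σ * (v : H) * σ⁻¹) * (y : H)⁻¹) * σ =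
          σ⁻¹ * (y : H) * σ * (v : H) * (σ⁻¹ * (y : H) * σ)⁻¹
        group))
      obtain ⟨w, hw, e1⟩ := (himg hWS).1 ha
      refine (himg hWS).2 ⟨_, conj_mem hw ⟨_, hy'⟩, ?_⟩
      show σ⁻¹ * (y : H) * σ * G.subtype w * (σ⁻¹ * (y : H) * σ)⁻¹ =
        σ⁻¹ * ((y : H) * (a : H) * (y : H)⁻¹) * σ
      rw [e1]; group
    · have hc : ∀ w ∈ W, σ⁻¹ * (y : H) * σ * (w : H) = (w : H) * (σ⁻¹ * (y : H) * σ) := fun w hw => by
        have h1 : (⟨σ * (w : H) * σ⁻¹, (he ⟨w, hWS hw⟩) ▸ SetLike.coe_mem _⟩ : ↥G) ∈ img e W :=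
          (himg hWS).2 ⟨w, hw, by show (w : H) = σ⁻¹ * (σ * (w : H) * σ⁻¹) * σ; group⟩
        have h2 : (y : H) * (σ * (w : H) * σ⁻¹) = σ * (w : H) * σ⁻¹ * (y : H) :=
          congrArg Subtype.val (hy _ h1)
        calc σ⁻¹ * (y : H) * σ * (w : H) = σ⁻¹ * ((y : H) * (σ * (w : H) * σ⁻¹)) * σ := by group
          _ = σ⁻¹ * (σ * (w : H) * σ⁻¹ * (y : H)) * σ := by rw [h2]
          _ = _ := by group
      have hy' : σ⁻¹ * (y : H) * σ ∈ G := (hnorm W inferInstance hWS hWne).le (mem_normalizer_fintype (by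
        rintro _ ⟨w, hw, rfl⟩
        refine ⟨w, hw, ?_⟩
        show (w : H) = σ⁻¹ * (y : H) * σ * (w : H) * (σ⁻¹ * (y : H) * σ)⁻¹
        rw [hc w hw, mul_inv_cancel_right]))
      have hk : (⟨_, hy'⟩ : ↥G) ∈ ρ.ker := by
        rw [MonoidHom.mem_ker]
        refine Classical.Linear.eq_of_mulVec fun m k => ?_
        obtain ⟨w, hw⟩ := sp.fbij.2 (Multiplicative.ofAdd m)
        have h1 := sp.fact ⟨_, hy'⟩ w w (Subtype.ext (by
          show ((w : ↥G) : H) = _ * _ * _⁻¹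
          rw [hc w w.2, mul_inv_cancel_right]))
        rw [hw, toAdd_ofAdd] at h1
        rw [one_smul]
        show ((ρ ⟨_, hy'⟩).1 *ᵥ m) k = m k
        rw [← h1]
      have hyS : (⟨_, hy'⟩ : ↥G) ∈ (S : Subgroup ↥G) := sp.QS (sp.ker.le hk)
      have : ((e ⟨_, hyS⟩ : ↥(S : Subgroup ↥G)) : ↥G) = y := Subtype.ext (by
        rw [he]
        show σ * (σ⁻¹ * (y : H) * σ) * σ⁻¹ = (y : H)
        group)
      rw [← this]; exact SetLike.coe_mem _
  obtain ⟨⟨-, -, hc, hinf, hsup⟩, hel, ⟨iso⟩⟩ := product sp (abelian h sp hp5 ho)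
  refine ⟨(W ⊔ M).map G.subtype, R.map G.subtype, ⟨map_subtype_le _, map_subtype_le _, ?_, ?_, ?_⟩, ?_,
    ⟨(equivMapOfInjective _ _ G.subtype_injective).symm.trans iso⟩⟩
  · rintro _ ⟨a, ha, rfl⟩ _ ⟨b, hb, rfl⟩
    rw [← map_mul, ← map_mul, hc a ha b hb]
  · rw [← Subgroup.map_inf _ _ _ G.subtype_injective, hinf, Subgroup.map_bot]
  · rw [← Subgroup.map_sup, hsup, ← MonoidHom.range_eq_map, range_subtype]
  · refine ⟨⟨⟨fun x y => Subtype.ext ?_⟩⟩, ?_⟩
    · obtain ⟨a, ha, ea⟩ := x.2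
      obtain ⟨b, hb, eb⟩ := y.2
      show x.1 * y.1 = y.1 * x.1
      rw [← ea, ← eb, ← map_mul, ← map_mul]
      exact congrArg G.subtype (congrArg Subtype.val (hel.1.is_comm.comm ⟨a, ha⟩ ⟨b, hb⟩))
    · rintro _ ⟨a, ha, rfl⟩
      rw [← map_pow, hel.2 a ha, map_one]

end Cfsg.Agent.CharP.PushQd
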