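import Mathlib

/-!
Alternating biadditive maps invariant under scaling by squares vanish.
-/

set_option autoImplicit false

namespace Cfsg.Agent.CharP.PushQd

open Polynomial

variable {F : Type*} [Field F] [Fintype F] {A : Type*} [AddCommGroup A]

theorem exists_param (h2 : (2 : F) ≠ 0) (hq : 13 < Fintype.card F) :
    ∃ m : F, 2 * m ≠ 0 ∧ m ^ 2 - 1 ≠ 0 ∧ m ^ 2 + 1 ≠ 0 ∧
      (m ^ 2 - 1) ^ 4 + 4 * m ^ 2 * (m ^ 2 - 1) ^ 2 + 16 * m ^ 4 ≠ 0 := by
  set P : F[X] := X * (X ^ 2 - C 1) * (X ^ 2 + C 1) *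
    ((X ^ 2 - C 1) ^ 4 + C 4 * X ^ 2 * (X ^ 2 - C 1) ^ 2 + C 16 * X ^ 4) with hP
  have hm1 : (X ^ 2 - C 1 : F[X]).Monic := monic_X_pow_sub_C 1 two_ne_zero
  have hm2 : (X ^ 2 + C 1 : F[X]).Monic := monic_X_pow_add_C 1 two_ne_zero
  have hd1 : (X ^ 2 - C 1 : F[X]).natDegree = 2 := natDegree_X_pow_sub_C
  have hd2 : (X ^ 2 + C 1 : F[X]).natDegree = 2 := natDegree_X_pow_add_C
  have hdeg : ((X ^ 2 - C 1) ^ 4 + C 4 * X ^ 2 * (X ^ 2 - C 1) ^ 2 + C 16 * X ^ 4 : F[X]).natDegree ≤ 8 := by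
    compute_degree
  have hc : ((X ^ 2 - C 1) ^ 4 + C 4 * X ^ 2 * (X ^ 2 - C 1) ^ 2 + C 16 * X ^ 4 : F[X]).eval 0 = 1 := by
    simp
    norm_num
  have hne : P ≠ 0 := by
    rw [hP]
    refine mul_ne_zero (mul_ne_zero (mul_ne_zero X_ne_zero hm1.ne_zero) hm2.ne_zero) fun e => ?_
    rw [e, eval_zero] at hc
    exact zero_ne_one hc
  have hP13 : P.natDegree ≤ 13 := by
    rw [hP]
    refine natDegree_mul_le.trans (Nat.add_le_add (natDegree_mul_le.trans (Nat.add_le_add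
      (natDegree_mul_le.trans (Nat.add_le_add natDegree_X_le hd1.le)) hd2.le)) hdeg)
  obtain ⟨m, hm⟩ : ∃ m : F, P.eval m ≠ 0 := by
    by_contra hall
    push Not at hall
    exact hne (eq_zero_of_natDegree_lt_card_of_eval_eq_zero P Function.injective_id hall (by omega))
  rw [hP] at hm
  simp only [eval_mul, eval_add, eval_sub, eval_pow, eval_X, eval_C, mul_ne_zero_iff] at hm
  exact ⟨m, mul_ne_zero h2 hm.1.1.1, hm.1.1.2, hm.1.2, hm.2⟩

/-- A biadditive alternating map invariant under scaling by nonzero squares is zero. -/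
theorem eq_zero_of_square_invariant {p n : ℕ} (hp : p.Prime) (hp5 : 5 ≤ p) (hn : 1 ≤ n)
    (hF : Fintype.card F = p ^ n) (β : F →+ F →+ A) (halt : ∀ x, β x x = 0)
    (hinv : ∀ c : F, c ≠ 0 → ∀ x y, β (c * c * x) (c * c * y) = β x y) : ∀ x y, β x y = 0 := by
  rcases Nat.lt_or_ge n 2 with h | h
  · obtain rfl : n = 1 := by omega
    intro x y
    have hc : IsAddCyclic F := isAddCyclic_of_prime_card (p := p) (hp := ⟨hp⟩) (by
      rw [Nat.card_eq_fintype_card, hF, pow_one])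
    obtain ⟨g, hg⟩ := hc.exists_generator
    obtain ⟨i, rfl⟩ := AddSubgroup.mem_zmultiples_iff.1 (hg x)
    obtain ⟨j, rfl⟩ := AddSubgroup.mem_zmultiples_iff.1 (hg y)
    rw [map_zsmul (β (i • g)), map_zsmul β, AddMonoidHom.smul_apply, halt, zsmul_zero, zsmul_zero]
  have h2 : (2 : F) ≠ 0 := fun e => by
    haveI := Fact.mk hp
    haveI : CharP F p := charP_of_card_eq_prime_pow hF
    have := (CharP.cast_eq_zero_iff F p 2).1 (by exact_mod_cast e)
    have := Nat.le_of_dvd (by norm_num) this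
    omega
  have hq : 13 < Fintype.card F := by
    rw [hF]
    calc 13 < 5 ^ 2 := by norm_num
      _ ≤ p ^ 2 := Nat.pow_le_pow_left hp5 2
      _ ≤ p ^ n := Nat.pow_le_pow_right hp.pos h
  obtain ⟨m, hm, hm1, hm2, hm4⟩ := exists_param h2 hq
  set a := m ^ 2 - 1 with ha
  set b := 2 * m with hb
  set c := m ^ 2 + 1 with hc
  have habc : a * a + b * b = c * c := by rw [ha, hb, hc]; ring
  have hmove : ∀ d : F, d ≠ 0 → ∀ x y, β (d * d * x) y = β x ((d * d)⁻¹ * y) := fun d hd x y => by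
    conv_lhs => rw [show y = d * d * ((d * d)⁻¹ * y) by field_simp]
    exact hinv d hd _ _
  set K := (a * a)⁻¹ + (b * b)⁻¹ - (c * c)⁻¹ with hK
  have hK0 : K ≠ 0 := by
    intro e
    have e' : (a * a + b * b) * (a * a + b * b) - a * a * (b * b) = 0 := by
      have h1 := congrArg (fun z => z * (a * a) * (b * b) * (c * c)) e
      simp only [hK, zero_mul] at h1
      field_simp at h1
      linear_combination h1 + (a * a + b * b) * habc
    exact hm4 (by rw [ha, hb] at e'; linear_combination e')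
  intro x y
  have h1 : β x (K * (K⁻¹ * y)) = 0 := by
    set y' := K⁻¹ * y
    rw [hK, sub_mul, add_mul, map_sub, map_add, ← hmove a hm1, ← hmove b hm, ← hmove c hm2,
      ← AddMonoidHom.add_apply, ← map_add, ← add_mul, habc, sub_self]
  rwa [show K * (K⁻¹ * y) = y by field_simp] at h1

end Cfsg.Agent.CharP.PushQd
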