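import Cfsg.Agent.Lib.CharP.PushOne.Final
import Cfsg.Agent.Lib.CharP.PushQd.Sym
import Cfsg.Agent.Lib.Transfer.CenterInf

/-!
The rank one pushing-up situation for `p ≥ 5`: the plane, the centraliser of the central involution and its
perfect part.
-/

set_option autoImplicit false
set_option linter.unusedSectionVars false
set_option linter.style.haveILetI false

namespace Cfsg.Agent.CharP.PushQd

open Subgroup Cfsg.Agent.Classical.GL2 Matrix PushOne
open scoped MatrixGroups commutatorElement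

variable {G : Type*} [Group G] [Finite G] {p : ℕ} [hp : Fact p.Prime]
  {F : Type} [Field F] [Fintype F] {S : Subgroup G} {φ : G →* PSL(2, F)}

/-- The splitting data. -/
structure Split (p : ℕ) (F : Type) [Field F] [Fintype F] (S : Subgroup G) (ρ : G →* SL(2, F)) (z : G)
    (W R M : Subgroup G) (f : ↥W →* Multiplicative (Fin 2 → F)) : Prop where
  QS : Cfsg.pCore p G ≤ S
  expS : ∀ x ∈ S, x ^ p = 1
  cent : ∀ c ∈ ⁅S, S⁆, ∀ x ∈ S, x * c = c * x
  ker : ρ.ker = Cfsg.pCore p G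
  surj : Function.Surjective ρ
  uni : ∀ x ∈ S, ∃ t : F, ρ x = uniSL t
  lifts : ∀ t : F, ∃ u ∈ M, u ∈ S ∧ ρ u = uniSL t
  Wn : W.Normal
  Rn : R.Normal
  WQ : W ≤ Cfsg.pCore p G
  WV : W ≤ PushingUpCL.omegaCore p G
  RQ : R ≤ Cfsg.pCore p G
  zc : ∀ r ∈ R, z * r = r * z
  zw : ∀ w ∈ W, z * w * z⁻¹ = w⁻¹
  zz : z * z = 1
  znS : ∀ x ∈ S, z * x * z⁻¹ ∈ S
  QWR : Cfsg.pCore p G ≤ W ⊔ R
  WR : W ⊓ R = ⊥
  Wc : ∀ w ∈ W, ∀ x ∈ Cfsg.pCore p G, x * w = w * x
  Mc : ∀ m ∈ M, ∀ r ∈ R, m * r = r * m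
  Mz : ∀ m ∈ M, m * z = z * m
  Mbot : M ⊓ Cfsg.pCore p G = ⊥
  Mtop : M.map ρ = ⊤
  fbij : Function.Bijective f
  fact : ∀ (g : G) (u v : ↥W), (v : G) = g * u * g⁻¹ → (f v).toAdd = (ρ g).1.mulVec (f u).toAdd

theorem perfect_SL (h3 : (3 : F) ≠ 0) (h2 : (2 : F) ≠ 0) : commutator SL(2, F) = ⊤ := by
  have key : ∀ x : F, uniSL x ∈ commutator SL(2, F) := fun x => by
    have h1 : ⁅dSL (Units.mk0 (2 : F) h2), uniSL (x / 3)⁆ ∈ commutator SL(2, F) :=
      commutator_mem_commutator (mem_top _) (mem_top _)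
    rw [commutatorElement_def, d_conj_uni, uniSL_inv, uniSL_mul, Units.val_mk0] at h1
    rwa [show (2 : F) * 2 * (x / 3) + -(x / 3) = x by field_simp; ring] at h1
  refine eq_top_of_uni_low key fun x => ?_
  rw [show lowSL x = wSL * uniSL (-x) * wSL⁻¹ by rw [w_conj_uni, neg_neg]]
  exact (inferInstance : (commutator SL(2, F)).Normal).conj_mem _ (key _) _

/-- The splitting. -/
theorem exists_split (h : Sit p F S φ) (hp5 : 5 ≤ p) {n : ℕ} (hn : 1 ≤ n)
    (hF : Fintype.card F = p ^ n) :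
    ∃ (ρ : G →* SL(2, F)) (z : G) (W R M : Subgroup G) (f : ↥W →* Multiplicative (Fin 2 → F)),
      Split p F S ρ z W R M f := by
  rcases h.cases with r | r
  swap
  · exact absurd r.three (by omega)
  set V := PushingUpCL.omegaCore p G with hVd
  set Q := Cfsg.pCore p G with hQd
  obtain ⟨ρ, hρ, hk, hV⟩ := h.kerOne r
  obtain ⟨fV, hfVs, hfVk, hfV⟩ := hV
  replace hk : ρ.ker = Q := hk
  have hQS : Q ≤ S := h.core_le
  have hVQ : V ≤ Q := fun v hv => hv.1
  have hexp : ∀ x ∈ S, x ^ p = 1 := fun x hx => congrArg Subtype.val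
    (Monoid.exponent_dvd_iff_forall_pow_eq_one.1 ((r.expOdd (by omega)) ▸ dvd_rfl :
      Monoid.exponent ↥S ∣ p) ⟨x, hx⟩)
  have hcent : ∀ c ∈ ⁅S, S⁆, ∀ x ∈ S, x * c = c * x := fun c hc x hx => by
    have h1 : ⁅c, x⁆ ∈ S.lowerCentralSeries 2 := by
      rw [Subgroup.lowerCentralSeries_succ, lcs_one]; exact commutator_mem_commutator hc hx
    rw [r.classTwo, mem_bot] at h1
    exact (commutatorElement_eq_one_iff_mul_comm.1 h1).symm
  have hne : ∀ k : ℕ, 0 < k → k < 5 → (k : F) ≠ 0 := fun k hk0 hk e => by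
    have h1 : ringChar F ∣ k := (ringChar.spec F k).1 e
    rw [h.ringChar_eq] at h1
    have := Nat.le_of_dvd hk0 h1
    omega
  have h2 : (2 : F) ≠ 0 := by exact_mod_cast hne 2 (by norm_num) (by norm_num)
  have h3 : (3 : F) ≠ 0 := by exact_mod_cast hne 3 (by norm_num) (by norm_num)
  obtain ⟨j, hj⟩ : ∃ j : ℕ, 2 * j = p + 1 := ⟨(p + 1) / 2, by
    obtain ⟨k, hk⟩ := hp.out.odd_of_ne_two (by omega)
    omega⟩
  -- the involution
  obtain ⟨g0, hg0⟩ := hρ.2.1 (-1)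
  set z := g0 ^ p with hz
  have hoddp : Odd p := hp.out.odd_of_ne_two (by omega)
  have hρz : ρ z = -1 := by rw [hz, map_pow, hg0, hoddp.neg_one_pow]
  have hzz : z * z = 1 := by
    have h1 : g0 * g0 ∈ Q := by rw [← hk, MonoidHom.mem_ker, map_mul, hg0]; simp
    have h2 := hexp _ (hQS h1)
    rw [(Commute.refl g0).mul_pow] at h2
    exact h2
  have hzi : z⁻¹ = z := inv_eq_of_mul_eq_one_right hzz
  have hflip : ∀ v : ↥V, fV ⟨z * v * z⁻¹, conj_mem v.2 z⟩ = (fV v)⁻¹ := fun v => by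
    refine Multiplicative.toAdd.injective ?_
    rw [hfV z v _ rfl, hρz, toAdd_inv]
    show (-(1 : Matrix (Fin 2) (Fin 2) F)) *ᵥ _ = _
    rw [neg_mulVec, one_mulVec]
  -- `W`
  let W : Subgroup G :=
    { carrier := {w | w ∈ V ∧ z * w * z⁻¹ = w⁻¹}
      one_mem' := ⟨one_mem _, by simp⟩
      mul_mem' := fun {a b} ha hb => ⟨mul_mem ha.1 hb.1, by
        rw [show z * (a * b) * z⁻¹ = (z * a * z⁻¹) * (z * b * z⁻¹) by group, ha.2, hb.2,
          _root_.mul_inv_rev]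
        exact (inv_mem hb.1).2.1 _ (inv_mem ha.1).1⟩
      inv_mem' := fun {a} ha => ⟨inv_mem ha.1, by
        rw [show z * a⁻¹ * z⁻¹ = (z * a * z⁻¹)⁻¹ by group, ha.2]⟩ }
  have hWV : W ≤ V := fun w hw => hw.1
  have hWn : W.Normal := ⟨fun w hw g => ⟨conj_mem hw.1 g, by
    have hq : z⁻¹ * g⁻¹ * z * g ∈ Q := by
      rw [← hk, MonoidHom.mem_ker]; simp [hρz]
    have hc := hw.1.2.1 _ hq
    have e : g⁻¹ * z * g = z * (z⁻¹ * g⁻¹ * z * g) := by group
    calc z * (g * w * g⁻¹) * z⁻¹ = g * ((g⁻¹ * z * g) * w * (g⁻¹ * z * g)⁻¹) * g⁻¹ := by group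
      _ = g * (z * ((z⁻¹ * g⁻¹ * z * g) * w) * (z⁻¹ * g⁻¹ * z * g)⁻¹ * z⁻¹) * g⁻¹ := by
        rw [e]; group
      _ = g * (z * w * z⁻¹) * g⁻¹ := by rw [hc]; group
      _ = _ := by rw [hw.2]; group⟩⟩
  have hzsq : ∀ x, z * (z * x * z⁻¹) * z⁻¹ = x := fun x => by
    rw [show z * (z * x * z⁻¹) * z⁻¹ = (z * z) * x * (z * z)⁻¹ by group, hzz]; simp
  -- decomposition of `Q`
  have hdec : ∀ x ∈ Q, ∃ w ∈ W, z * (w⁻¹ * x) * z⁻¹ = w⁻¹ * x := fun x hx => by
    set d := x * (z * x * z⁻¹)⁻¹ with hd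
    have hdV : d ∈ V := by
      have := r.coreTop (commutator_mem_commutator hx (mem_top z))
      rwa [show d = ⁅x, z⁆ by rw [hd, commutatorElement_def]; group]
    have hdz : z * d * z⁻¹ = d⁻¹ := by
      rw [hd, show z * (x * (z * x * z⁻¹)⁻¹) * z⁻¹ = (z * x * z⁻¹) * (z * (z * x * z⁻¹) * z⁻¹)⁻¹ by group,
        hzsq]
      group
    refine ⟨d ^ j, pow_mem (show d ∈ W from ⟨hdV, hdz⟩) j, ?_⟩
    have hdp : d ^ p = 1 := hdV.2.2
    have e1 : z * x * z⁻¹ = d⁻¹ * x := by rw [hd]; group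
    calc z * ((d ^ j)⁻¹ * x) * z⁻¹ = ((z * d * z⁻¹) ^ j)⁻¹ * (z * x * z⁻¹) := by rw [conj_pow]; group
      _ = d ^ j * (d⁻¹ * x) := by rw [hdz, inv_pow, inv_inv, e1]
      _ = (d ^ j * d⁻¹) * x := by group
      _ = (d ^ j)⁻¹ * x := by
        congr 1
        rw [eq_inv_iff_mul_eq_one, mul_assoc, show d⁻¹ * d ^ j = d ^ j * d⁻¹ from
          ((Commute.refl d).inv_left.pow_right j).eq, ← mul_assoc, ← pow_add,
          show j + j = p + 1 by omega, pow_succ, hdp]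
        group
  -- `R`
  set Mz := centralizer ({z} : Set G) with hMz
  have memMz : ∀ {m : G}, m ∈ Mz ↔ m * z = z * m := fun {m} => mem_centralizer_singleton_iff
  have hfixz : ∀ {x : G}, z * x * z⁻¹ = x → x * z = z * x := fun {x} e => (mul_inv_eq_iff_eq_mul.1 e).symm
  set R := Q ⊓ Mz with hR
  have hQWR : Q ≤ W ⊔ R := fun x hx => by
    obtain ⟨w, hw, hwx⟩ := hdec x hx
    rw [show x = w * (w⁻¹ * x) by group]
    exact mul_mem (mem_sup_left hw)
      (mem_sup_right (mem_inf.2 ⟨mul_mem (inv_mem (hVQ hw.1)) hx, memMz.2 (hfixz hwx)⟩))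
  have hodd1 : ∀ x ∈ S, x * x = 1 → x = 1 := fun x hx e => by
    have h1 : orderOf x ∣ 2 := orderOf_dvd_of_pow_eq_one (by rw [pow_two]; exact e)
    have h2 : orderOf x ∣ p := orderOf_dvd_of_pow_eq_one (hexp x hx)
    exact orderOf_eq_one_iff.1 (Nat.Coprime.eq_one_of_dvd
      (Nat.Coprime.coprime_dvd_left h1 ((Nat.coprime_primes Nat.prime_two hp.out).2 (by omega))) h2)
  have hWR : W ⊓ R = ⊥ := by
    rw [eq_bot_iff]
    rintro w ⟨hw, -, hwz⟩
    rw [mem_bot]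
    refine hodd1 w (hQS (hVQ hw.1)) ?_
    have h1 := hw.2
    rw [← memMz.1 hwz, mul_inv_cancel_right] at h1
    exact eq_inv_iff_mul_eq_one.1 h1
  -- `G` is generated by the centraliser and `Q`
  have hMtop : Mz.map ρ = ⊤ := by
    refine eq_top_iff.2 fun A _ => ?_
    obtain ⟨g, rfl⟩ := hρ.2.1 A
    set q0 := z⁻¹ * (g⁻¹ * z * g) with hq0
    have hq0Q : q0 ∈ Q := by rw [← hk, MonoidHom.mem_ker, hq0]; simp [hρz]
    have hinvq : z * q0 * z⁻¹ = q0⁻¹ := by
      rw [hq0, hzi]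
      calc z * (z * (g⁻¹ * z * g)) * z = (z * z) * (g⁻¹ * z * g * z) := by group
        _ = g⁻¹ * z⁻¹ * g * z⁻¹ := by rw [hzz, one_mul, hzi]
        _ = _ := by group
    obtain ⟨w, hw, hwx⟩ := hdec q0 hq0Q
    set r0 := w⁻¹ * q0 with hr0
    have hwc : r0 * w = w * r0 := hw.1.2.1 r0 (mul_mem (inv_mem (hVQ hw.1)) hq0Q)
    have hr1 : r0 = 1 := hodd1 r0 (hQS (mul_mem (inv_mem (hVQ hw.1)) hq0Q)) (by
      have e1 : z * q0 * z⁻¹ = w⁻¹ * r0 := by
        rw [show q0 = w * r0 by rw [hr0]; group,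
          show z * (w * r0) * z⁻¹ = (z * w * z⁻¹) * (z * r0 * z⁻¹) by group, hw.2, hwx]
      rw [e1, show q0 = w * r0 by rw [hr0]; group, _root_.mul_inv_rev] at hinvq
      have e2 : w⁻¹ * r0 = w⁻¹ * r0⁻¹ :=
        hinvq.trans ((Commute.inv_inv (show Commute r0 w from hwc)).eq)
      exact eq_inv_iff_mul_eq_one.1 (mul_left_cancel e2))
    have hq0W : q0 ∈ W := by rw [show q0 = w * r0 by rw [hr0]; group, hr1, mul_one]; exact hw
    set x := q0 ^ j with hx
    have hxW : x ∈ W := pow_mem hq0W j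
    have hxx : x * x = q0 := by
      rw [hx, ← pow_add, show j + j = p + 1 by omega, pow_succ, hexp q0 (hQS hq0Q), one_mul]
    refine ⟨g * x⁻¹, memMz.2 ?_, by
      rw [map_mul, map_inv, show ρ x = 1 from (hk.ge (hVQ hxW.1) : x ∈ ρ.ker), inv_one, mul_one]⟩
    have e3 : z * g = g * (z * q0) := by rw [hq0]; group
    have e4 : x⁻¹ * z = z * x := by rw [← hxW.2]; group
    calc g * x⁻¹ * z = g * (z * x) := by rw [mul_assoc, e4]
      _ = g * (z * q0) * x⁻¹ := by rw [← hxx]; group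
      _ = z * (g * x⁻¹) := by rw [← e3]; group
  have hRn : R.Normal := ⟨fun a ha g => by
    obtain ⟨m, hm, e⟩ := hMtop.ge (mem_top (ρ g))
    have hq : m⁻¹ * g ∈ Q := by rw [← hk, MonoidHom.mem_ker, map_mul, map_inv, e, inv_mul_cancel]
    obtain ⟨w, hw, r1, hr1, e1⟩ := exists_mul
      ((show W ≤ normalizer (R : Set G) from fun w hw => centralizer_le_normalizer _ fun y hy =>
        hw.1.2.1 y hy.1)) (hQWR hq)
    have hg : g = m * (w * r1) := by rw [← e1]; group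
    have hra : r1 * a * r1⁻¹ ∈ R := mul_mem (mul_mem hr1 ha) (inv_mem hr1)
    have hmr : m * (r1 * a * r1⁻¹) * m⁻¹ ∈ R :=
      mem_inf.2 ⟨conj_mem (mem_inf.1 hra).1 m, mul_mem (mul_mem hm (mem_inf.1 hra).2) (inv_mem hm)⟩
    rw [hg, show m * (w * r1) * a * (m * (w * r1))⁻¹ = m * (w * (r1 * a * r1⁻¹) * w⁻¹) * m⁻¹ by group,
      ← hw.1.2.1 _ hra.1, mul_inv_cancel_right]
    exact hmr⟩
  -- the perfect part
  set M1 := ⁅Mz, Mz⁆ with hM1
  set M2 := ⁅M1, M1⁆ with hM2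
  have hperf := perfect_SL (F := F) h3 h2
  have hM1top : M1.map ρ = ⊤ := by rw [hM1, map_commutator, hMtop, ← commutator_def, hperf]
  have hM2top : M2.map ρ = ⊤ := by rw [hM2, map_commutator, hM1top, ← commutator_def, hperf]
  have hM1z : M1 ≤ Mz := comm_le_left le_normalizer
  have hM2M1 : M2 ≤ M1 := comm_le_left le_normalizer
  have hRC : ⁅R, Mz⁆ ≤ omG p G := commutator_le.2 fun x hx m hm => by
    have hcV : ⁅x, m⁆ ∈ V := r.coreTop (commutator_mem_commutator hx.1 (mem_top m))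
    refine (hfVk ⟨_, hcV⟩).1 ?_
    have hcz : z * ⁅x, m⁆ * z⁻¹ = ⁅x, m⁆ := by
      have : ⁅x, m⁆ ∈ Mz := by
        rw [commutatorElement_def]; exact mul_mem (mul_mem (mul_mem hx.2 hm) (inv_mem hx.2)) (inv_mem hm)
      rw [← memMz.1 this, mul_inv_cancel_right]
    have h1 := hflip ⟨_, hcV⟩
    rw [show (⟨z * ⁅x, m⁆ * z⁻¹, conj_mem hcV z⟩ : ↥V) = ⟨_, hcV⟩ from Subtype.ext hcz] at h1
    refine Multiplicative.toAdd.injective ?_
    have h4 : (fV ⟨_, hcV⟩).toAdd = -(fV ⟨_, hcV⟩).toAdd := congrArg Multiplicative.toAdd h1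
    funext i
    have h5 := congrFun h4 i
    rw [Pi.neg_apply, eq_neg_iff_add_eq_zero, ← two_mul] at h5
    exact (mul_eq_zero.1 h5).resolve_left h2
  have hzero : ⁅⁅R, Mz⁆, Mz⁆ = ⊥ := comm_eq_bot fun c hc m _ => ((hRC hc).2 m (mem_top m)).symm
  have hM1R : ∀ m ∈ M1, ∀ x ∈ R, m * x = x * m := fun m hm x hx => by
    have h1 : ⁅⁅Mz, Mz⁆, R⁆ = ⊥ := commutator_commutator_eq_bot_of_rotate (by
      rw [commutator_comm Mz R]; exact hzero) hzero
    exact ((commutator_eq_bot_iff_le_centralizer.1 h1) hm x hx).symm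
  have hM1le : M1 ≤ R ⊔ M2 := by
    have hle : Mz ≤ M1 ⊔ R := fun m hm => by
      obtain ⟨m1, hm1, e⟩ := hM1top.ge (mem_top (ρ m))
      have : m1⁻¹ * m ∈ Q := by rw [← hk, MonoidHom.mem_ker, map_mul, map_inv, e, inv_mul_cancel]
      rw [show m = m1 * (m1⁻¹ * m) by group]
      exact mul_mem (mem_sup_left hm1) (mem_sup_right (mem_inf.2 ⟨this, mul_mem (inv_mem (hM1z hm1)) hm⟩))
    have hn : M1 ⊔ R ≤ normalizer ((R ⊔ M2 : Subgroup G) : Set G) := by
      refine le_trans (le_inf (le_nz R) ?_) (normalizer_inf_normalizer_le_normalizer_sup _ _)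
      exact sup_le (le_normalizer_of_comm (commutator_mono hM2M1 le_rfl))
        fun x hx => centralizer_le_normalizer _ fun y hy => hM1R y (hM2M1 hy) x hx
    refine (commutator_mono hle hle).trans (comm_sup_le (sup_comm_le le_sup_right ?_ hn)
      ((commutator_le_left R _).trans le_sup_left) hn)
    exact (commutator_le.2 fun m hm x hx => by
      rw [commutatorElement_eq_one_iff_mul_comm.2 (hM1R m hm x hx)]; exact one_mem _)
  have hM2perf : M2 ≤ ⁅M2, M2⁆ := by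
    have hn : R ⊔ M2 ≤ normalizer ((⁅M2, M2⁆ : Subgroup G) : Set G) :=
      sup_le (fun x hx => centralizer_le_normalizer _ fun y hy =>
        hM1R y (hM2M1 ((comm_le_left le_normalizer) hy)) x hx)
        (fun s hs => by
          refine mem_normalizer_iff_map_conj_eq.2 ?_
          rw [map_commutator, mem_normalizer_iff_map_conj_eq.1 (le_normalizer hs)])
    have hR1 : ∀ {B : Subgroup G}, B ≤ M1 → ⁅R, B⁆ ≤ ⁅M2, M2⁆ := fun hB =>
      (comm_eq_bot fun x hx m hm => (hM1R m (hB hm) x hx).symm).le.trans bot_le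
    refine (commutator_mono (le_inf hM1le le_rfl) (le_inf hM1le le_rfl)).trans ?_
    intro y hy
    have hRR : ∀ {B : Subgroup G}, B ≤ M1 → ⁅(R ⊔ M2) ⊓ M1, B⁆ ≤ ⁅M1, M1⁆ := fun hB =>
      commutator_mono inf_le_right hB
    refine (commutator_le.2 ?_) hy
    intro a ha0 b hb0
    obtain ⟨ha, haM⟩ := mem_inf.1 ha0
    obtain ⟨hb, hbM⟩ := mem_inf.1 hb0
    obtain ⟨x, hx, m, hm, rfl⟩ := exists_mul
      ((show R ≤ normalizer (M2 : Set G) from fun x hx => centralizer_le_normalizer _ fun y hy =>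
        hM1R y (hM2M1 hy) x hx)) ha
    obtain ⟨x', hx', m', hm', rfl⟩ := exists_mul
      (show R ≤ normalizer (M2 : Set G) from fun x hx => centralizer_le_normalizer _ fun y hy =>
        hM1R y (hM2M1 hy) x hx) hb
    have hxM : x ∈ M1 := by simpa using mul_mem haM (inv_mem (hM2M1 hm))
    have hxM' : x' ∈ M1 := by simpa using mul_mem hbM (inv_mem (hM2M1 hm'))
    have c1 : ∀ k ∈ M1, ⁅x, k⁆ = 1 := fun k hk =>
      commutatorElement_eq_one_iff_mul_comm.2 (hM1R k hk x hx).symm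
    have c2 : ∀ k ∈ M1, ⁅k, x'⁆ = 1 := fun k hk =>
      commutatorElement_eq_one_iff_mul_comm.2 (hM1R k hk x' hx')
    have e : ⁅x * m, x' * m'⁆ = ⁅m, m'⁆ := by
      rw [commutatorElement_mul_left_eq_conj_mul, c1 _ (mul_mem hxM' (hM2M1 hm')), mul_one,
        commutatorElement_mul_right_eq_mul_conj, c2 m (hM2M1 hm), one_mul]
      have hmm : ⁅m, m'⁆ ∈ M1 := hM2M1 (comm_le_left le_normalizer (commutator_mem_commutator hm hm'))
      rw [show x' * ⁅m, m'⁆ * x'⁻¹ = ⁅m, m'⁆ by rw [← hM1R _ hmm x' hx', mul_inv_cancel_right],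
        ← hM1R _ hmm x hx, mul_inv_cancel_right]
    rw [e]
    exact commutator_mem_commutator hm hm'
  -- the Sylow group of the perfect part
  have hMcR : ∀ m ∈ M2, ∀ x ∈ R, m * x = x * m := fun m hm => hM1R m (hM2M1 hm)
  set T := S ⊓ M2 with hT
  have hlifts : ∀ t : F, ∃ u ∈ M2, u ∈ S ∧ ρ u = uniSL t := fun t => by
    obtain ⟨m, hm, e⟩ := hM2top.ge (mem_top (uniSL t))
    obtain ⟨s, hs, hsφ⟩ := h.exists_u t
    have hq : s⁻¹ * m ∈ Q := by
      rw [← hk, MonoidHom.mem_ker, map_mul, map_inv, e, hρ.2.2 s hs t hsφ, inv_mul_cancel]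
    exact ⟨m, hm, by simpa using mul_mem hs (hQS hq), e⟩
  choose u huM huS huρ using hlifts
  have hA : ∀ a ∈ M2, a ∈ Q → ∀ m ∈ M2, m * a = a * m := fun a ha haQ m hm =>
    hMcR m hm a ⟨haQ, hM1z (hM2M1 ha)⟩
  let β0 : F → F → G := fun x y => ⁅u x, u y⁆
  have hβQ : ∀ x y, β0 x y ∈ Q ∧ β0 x y ∈ M2 := fun x y => ⟨by
    rw [← hk, MonoidHom.mem_ker]
    show ρ ⁅u x, u y⁆ = 1
    rw [map_commutatorElement, huρ, huρ, commutatorElement_eq_one_iff_mul_comm, uniSL_mul, uniSL_mul,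
      add_comm], comm_le_left le_normalizer (commutator_mem_commutator (huM x) (huM y))⟩
  set A := M2 ⊓ Q with hAd
  letI : CommGroup ↥A := { (inferInstance : Group ↥A) with
    mul_comm := fun a b => Subtype.ext (hA b b.2.1 b.2.2 a a.2.1) }
  have hshift : ∀ x, ∀ a ∈ M2, a ∈ S → ρ a = uniSL x →
      (∀ y, ⁅a, u y⁆ = β0 x y) ∧ ∀ y, ⁅u y, a⁆ = β0 y x := fun x a haM haS e => by
    have hq : (u x)⁻¹ * a ∈ Q := by
      rw [← hk, MonoidHom.mem_ker, map_mul, map_inv, huρ, e, inv_mul_cancel]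
    have hc : ∀ k ∈ M2, k * ((u x)⁻¹ * a) = ((u x)⁻¹ * a) * k :=
      hA _ (mul_mem (inv_mem (huM x)) haM) hq
    refine ⟨fun y => ?_, fun y => ?_⟩
    · conv_lhs => rw [show a = u x * ((u x)⁻¹ * a) by group]
      rw [commutatorElement_mul_left_eq_conj_mul,
        commutatorElement_eq_one_iff_mul_comm.2 (hc _ (huM y)).symm, mul_one, mul_inv_cancel, one_mul]
    · conv_lhs => rw [show a = u x * ((u x)⁻¹ * a) by group]
      rw [commutatorElement_mul_right_eq_mul_conj,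
        commutatorElement_eq_one_iff_mul_comm.2 (hc _ (huM y)), mul_one, mul_inv_cancel_right]
  have hcS : ∀ x y, ∀ k ∈ S, k * β0 x y * k⁻¹ = β0 x y := fun x y k hk => by
    rw [hcent _ (commutator_mem_commutator (huS x) (huS y)) k hk, mul_inv_cancel_right]
  let β : F →+ F →+ Additive ↥A :=
    AddMonoidHom.mk' (fun x => AddMonoidHom.mk'
      (fun y => Additive.ofMul ⟨β0 x y, (hβQ x y).2, (hβQ x y).1⟩) fun y y' => by
        refine congrArg Additive.ofMul (Subtype.ext ?_)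
        show β0 x (y + y') = β0 x y * β0 x y'
        rw [← (hshift (y + y') _ (mul_mem (huM y) (huM y')) (mul_mem (huS y) (huS y'))
          (by rw [map_mul, huρ, huρ, uniSL_mul])).2 x, commutatorElement_mul_right_eq_mul_conj,
          show ⁅u x, u y⁆ * u y * ⁅u x, u y'⁆ * (u y)⁻¹ = β0 x y * (u y * β0 x y' * (u y)⁻¹) by simp only [β0, mul_assoc],
          hcS _ _ _ (huS y)]) fun x x' => by
        refine AddMonoidHom.ext fun y => ?_
        refine congrArg Additive.ofMul (Subtype.ext ?_)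
        show β0 (x + x') y = β0 x y * β0 x' y
        rw [← (hshift (x + x') _ (mul_mem (huM x) (huM x')) (mul_mem (huS x) (huS x'))
          (by rw [map_mul, huρ, huρ, uniSL_mul])).1 y, commutatorElement_mul_left_eq_conj_mul]
        show u x * β0 x' y * (u x)⁻¹ * β0 x y = β0 x y * β0 x' y
        rw [hcS _ _ _ (huS x)]
        exact hA _ (hβQ x y).2 (hβQ x y).1 _ (hβQ x' y).2
  have hinv : ∀ c : F, c ≠ 0 → ∀ x y, β (c * c * x) (c * c * y) = β x y := fun c hc x y => by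
    refine congrArg Additive.ofMul (Subtype.ext ?_)
    show β0 (c * c * x) (c * c * y) = β0 x y
    obtain ⟨k, hkM, hkρ⟩ := hM2top.ge (mem_top (dSL (Units.mk0 c hc)))
    have hk' : ∀ t, k * u t * k⁻¹ ∈ M2 ∧ k * u t * k⁻¹ ∈ S ∧ ρ (k * u t * k⁻¹) = uniSL (c * c * t) := by
      intro t
      have e : ρ (k * u t * k⁻¹) = uniSL (c * c * t) := by
        rw [map_mul, map_mul, map_inv, hkρ, huρ, d_conj_uni, Units.val_mk0]
      refine ⟨mul_mem (mul_mem hkM (huM t)) (inv_mem hkM), ?_, e⟩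
      have hq : (u (c * c * t))⁻¹ * (k * u t * k⁻¹) ∈ Q := by
        rw [← hk, MonoidHom.mem_ker, map_mul, map_inv, huρ, e, inv_mul_cancel]
      simpa using mul_mem (huS (c * c * t)) (hQS hq)
    obtain ⟨a1, a2, a3⟩ := hk' x
    obtain ⟨b1, b2, b3⟩ := hk' y
    have hq : (u (c * c * y))⁻¹ * (k * u y * k⁻¹) ∈ Q := by
      rw [← hk, MonoidHom.mem_ker, map_mul, map_inv, huρ, b3, inv_mul_cancel]
    have e1 := (hshift _ _ a1 a2 a3).1 (c * c * y)
    have e2 : ⁅k * u x * k⁻¹, k * u y * k⁻¹⁆ = ⁅k * u x * k⁻¹, u (c * c * y)⁆ := by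
      conv_lhs => rw [show k * u y * k⁻¹ = u (c * c * y) * ((u (c * c * y))⁻¹ * (k * u y * k⁻¹)) by group]
      rw [commutatorElement_mul_right_eq_mul_conj, commutatorElement_eq_one_iff_mul_comm.2
        (hA _ (mul_mem (inv_mem (huM _)) b1) hq _ a1), mul_one, mul_inv_cancel_right]
    rw [← e1, ← e2, show ⁅k * u x * k⁻¹, k * u y * k⁻¹⁆ = k * β0 x y * k⁻¹ by
      show _ = k * ⁅u x, u y⁆ * k⁻¹
      simp only [commutatorElement_def]; group,
      hA _ (hβQ x y).2 (hβQ x y).1 k hkM, mul_inv_cancel_right]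
  have hβ0 := eq_zero_of_square_invariant hp.out hp5 hn hF β
    (fun x => congrArg Additive.ofMul (Subtype.ext (by
      show β0 x x = 1
      exact commutatorElement_eq_one_iff_mul_comm.2 rfl))) hinv
  have hTdec : ∀ a ∈ T, ∃ x, (u x)⁻¹ * a ∈ A := fun a ha => by
    obtain ⟨x, hx⟩ := h.exists_x ha.1
    refine ⟨x, mem_inf.2 ⟨mul_mem (inv_mem (huM x)) (mem_inf.1 ha).2, ?_⟩⟩
    rw [← hk]
    show ρ ((u x)⁻¹ * a) = 1
    rw [map_mul, map_inv, huρ, hρ.2.2 a ha.1 x hx, inv_mul_cancel]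
  have hTcomm : ∀ a ∈ T, ∀ b ∈ T, a * b = b * a := fun a ha b hb => by
    obtain ⟨x, hx⟩ := hTdec a ha
    obtain ⟨y, hy⟩ := hTdec b hb
    have e : u x * u y = u y * u x := commutatorElement_eq_one_iff_mul_comm.1
      (congrArg (fun v : ↥A => (v : G)) (congrArg Additive.toMul (hβ0 x y)))
    have c1 : Commute (u x) ((u y)⁻¹ * b) := hA _ hy.1 hy.2 _ (huM x)
    have c2 : Commute ((u x)⁻¹ * a) (u y) := (hA _ hx.1 hx.2 _ (huM y)).symm
    have c3 : Commute ((u x)⁻¹ * a) ((u y)⁻¹ * b) := hA _ hy.1 hy.2 _ hx.1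
    rw [show a = u x * ((u x)⁻¹ * a) by group, show b = u y * ((u y)⁻¹ * b) by group]
    exact (((show Commute (u x) (u y) from e).mul_right c1).mul_left (c2.mul_right c3)).eq
  have hAbot : A = ⊥ := by
    set T' := T.subgroupOf M2 with hT'
    haveI : IsMulCommutative ↥T' := ⟨⟨fun a b => Subtype.ext (Subtype.ext
      (hTcomm _ (mem_subgroupOf.1 a.2) _ (mem_subgroupOf.1 b.2)))⟩⟩
    have hidx : T'.index ∣ Nat.card SL(2, F) := by
      let f : ↥M2 →* SL(2, F) := ρ.comp M2.subtype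
      have h1 : f.ker ≤ T' := fun x hx => mem_subgroupOf.2
        ⟨hQS (hk.le (show (x : G) ∈ ρ.ker from hx)), x.2⟩
      have h2 : f.ker.index = Nat.card SL(2, F) := by
        rw [Subgroup.index_ker, MonoidHom.range_comp, range_subtype, hM2top, card_top]
      exact h2 ▸ index_dvd_of_le h1
    have hTc : ∃ k, Nat.card ↥T' = p ^ k :=
      IsPGroup.iff_card.1 ((h.isPGroup.to_le inf_le_left).of_equiv (subgroupOfEquivOfLe inf_le_right).symm)
    obtain ⟨k, hk1⟩ := hTc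
    have hTi : Nat.card ↥T' * T'.index = Nat.card ↥M2 := T'.card_mul_index
    have hTge : Nat.card F * Nat.card ↥A ≤ Nat.card ↥T' := by
      rw [Nat.card_congr (subgroupOfEquivOfLe (inf_le_right : T ≤ M2)).toEquiv, ← Nat.card_prod]
      refine Nat.card_le_card_of_injective (fun xa : F × ↥A => (⟨u xa.1 * xa.2,
        mul_mem (huS _) (hQS xa.2.2.2), mul_mem (huM _) xa.2.2.1⟩ : ↥T)) fun a b e => ?_
      have e' : u a.1 * (a.2 : G) = u b.1 * (b.2 : G) := congrArg Subtype.val e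
      have h1 := congrArg ρ e'
      rw [map_mul, map_mul, huρ, huρ, show ρ (a.2 : G) = 1 from hk.ge a.2.2.2,
        show ρ (b.2 : G) = 1 from hk.ge b.2.2.2, mul_one, mul_one] at h1
      have h2 : a.1 = b.1 := by
        have := congrArg (fun A : SL(2, F) => A.1 0 1) h1
        simpa [coe_uniSL] using this
      refine Prod.ext h2 (Subtype.ext ?_)
      rw [h2] at e'
      exact mul_left_cancel e'
    have hM2c : Nat.card ↥M2 = Nat.card SL(2, F) * Nat.card ↥A := by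
      let f : ↥M2 →* SL(2, F) := ρ.comp M2.subtype
      have := f.ker.card_mul_index
      rw [Subgroup.index_ker, MonoidHom.range_comp, range_subtype, hM2top, card_top] at this
      rw [← this, mul_comm]
      congr 1
      have e : f.ker = A.subgroupOf M2 := by
        ext x
        rw [MonoidHom.mem_ker, mem_subgroupOf]
        exact ⟨fun hx => ⟨x.2, hk.le hx⟩, fun hx => hk.ge hx.2⟩
      rw [e, Nat.card_congr (subgroupOfEquivOfLe (inf_le_left : A ≤ M2)).toEquiv]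
    have hco : (Nat.card ↥T').Coprime T'.index := by
      rw [hk1]
      refine Nat.Coprime.pow_left _ (hp.out.coprime_iff_not_dvd.2 fun hd => ?_)
      have h1 : T'.index ≤ (Fintype.card F - 1) * (Fintype.card F + 1) := by
        refine Nat.le_of_mul_le_mul_left ?_ (Nat.mul_pos (Nat.card_pos (α := F)) (Nat.card_pos (α := ↥A)))
        calc Nat.card F * Nat.card ↥A * T'.index ≤ Nat.card ↥T' * T'.index :=
              Nat.mul_le_mul_right _ hTge
          _ = _ := by rw [hTi, hM2c, natCard_SL_two, ← Nat.card_eq_fintype_card (α := F)]; ring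
      obtain ⟨d, hd1⟩ := hidx
      have h2 : T'.index * d = p ^ n * ((p ^ n - 1) * (p ^ n + 1)) := by
        rw [← hd1, natCard_SL_two, hF]
      have hsq : (p ^ n - 1) * (p ^ n + 1) = (p ^ n) ^ 2 - 1 := by
        have h5 := Nat.sq_sub_sq (p ^ n) 1
        rw [one_pow] at h5
        rw [h5, mul_comm]
      have hnd : ¬ p ∣ (p ^ n - 1) * (p ^ n + 1) := by
        rw [hsq]
        intro hh
        have h6 : p ∣ (p ^ n) ^ 2 := dvd_pow (dvd_pow_self p (by omega)) two_ne_zero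
        have h7 := Nat.dvd_sub h6 hh
        rw [Nat.sub_sub_self (Nat.one_le_pow _ _ (pow_pos hp.out.pos n))] at h7
        exact hp.out.not_dvd_one h7
      -- the exact order
      have hTle : Nat.card ↥T' ≤ Nat.card F * Nat.card ↥A := by
        have h8 : Nat.card ↥T' ∣ Nat.card SL(2, F) * Nat.card ↥A := hM2c ▸ hTi ▸ dvd_mul_right _ _
        rw [natCard_SL_two, mul_right_comm, hk1] at h8
        have h9 := (Nat.Coprime.pow_left k (hp.out.coprime_iff_not_dvd.2 (hF.symm ▸ hnd))).dvd_of_dvd_mul_right h8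
        rw [hk1, Nat.card_eq_fintype_card (α := F)]
        exact Nat.le_of_dvd (Nat.mul_pos Fintype.card_pos Nat.card_pos) h9
      have heq : T'.index = (Fintype.card F - 1) * (Fintype.card F + 1) := by
        have h10 := le_antisymm hTle hTge
        rw [h10, hM2c, natCard_SL_two] at hTi
        refine Nat.eq_of_mul_eq_mul_left (Nat.mul_pos (Nat.card_pos (α := F)) (Nat.card_pos (α := ↥A))) ?_
        rw [hTi, Nat.card_eq_fintype_card (α := F)]; ring
      rw [heq, hF] at hd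
      exact hnd hd
    have hbot := Transfer.CenterInf.inf_commutator_inf_center T' hco
    rw [eq_bot_iff]
    intro a ha
    rw [mem_bot]
    have hc : (⟨a, ha.1⟩ : ↥M2) ∈ commutator ↥M2 := by
      have e : (commutator ↥M2).map M2.subtype = ⁅M2, M2⁆ := by
        rw [_root_.commutator_def, map_commutator, ← MonoidHom.range_eq_map, range_subtype]
      obtain ⟨y, hy, hye⟩ := e.ge (hM2perf ha.1)
      obtain rfl : y = ⟨a, ha.1⟩ := Subtype.ext hye
      exact hy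
    have : (⟨a, ha.1⟩ : ↥M2) ∈ T' ⊓ commutator ↥M2 ⊓ Subgroup.center ↥M2 :=
      ⟨⟨mem_subgroupOf.2 ⟨hQS ha.2, ha.1⟩, hc⟩,
        Subgroup.mem_center_iff.2 fun y => Subtype.ext (hA a ha.1 ha.2 y y.2)⟩
    rw [hbot, mem_bot] at this
    exact congrArg Subtype.val this
  have hWle : W ≤ Q := hWV.trans hVQ
  let f : ↥W →* Multiplicative (Fin 2 → F) := fV.comp (inclusion hWV)
  have hfbij : Function.Bijective f := by
    refine ⟨(injective_iff_map_eq_one f).2 fun w hw => Subtype.ext ?_, fun m => ?_⟩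
    · have h1 : (w : G) ∈ omG p G := (hfVk _).1 hw
      have hwz : (w : G) ∈ R := ⟨hWle w.2, memMz.2 (h1.2 z (mem_top z)).symm⟩
      exact mem_bot.1 (hWR.le ⟨w.2, hwz⟩)
    · obtain ⟨v, rfl⟩ := hfVs m
      obtain ⟨w, hw, hwv⟩ := hdec v (hVQ v.2)
      refine ⟨⟨w, hw⟩, ?_⟩
      have h1 := hflip ⟨w⁻¹ * v, mul_mem (inv_mem hw.1) v.2⟩
      rw [show (⟨z * (w⁻¹ * v) * z⁻¹, _⟩ : ↥V) = ⟨w⁻¹ * v, mul_mem (inv_mem hw.1) v.2⟩ from
        Subtype.ext hwv] at h1
      have h4 : fV (⟨w⁻¹ * v, mul_mem (inv_mem hw.1) v.2⟩ : ↥V) = 1 := by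
        refine Multiplicative.toAdd.injective (funext fun i => ?_)
        have h5 := congrFun (congrArg Multiplicative.toAdd h1) i
        rw [toAdd_inv, Pi.neg_apply, eq_neg_iff_add_eq_zero, ← two_mul] at h5
        exact (mul_eq_zero.1 h5).resolve_left h2
      rw [show (⟨w⁻¹ * v, mul_mem (inv_mem hw.1) v.2⟩ : ↥V) = (⟨w, hw.1⟩ : ↥V)⁻¹ * v from rfl,
        map_mul, map_inv, inv_mul_eq_one] at h4
      exact h4
  have hznS : ∀ x ∈ S, z * x * z⁻¹ ∈ S := fun x hx => by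
    obtain ⟨t, ht⟩ := h.exists_x hx
    have h1 : x⁻¹ * (z * x * z⁻¹) ∈ Q := by
      rw [← hk]
      show ρ (x⁻¹ * (z * x * z⁻¹)) = 1
      rw [map_mul, map_inv, map_mul, map_mul, map_inv, hρz]
      simp
    simpa using mul_mem hx (hQS h1)
  exact ⟨ρ, z, W, R, M2, f, hQS, hexp, hcent, hk, hρ.2.1,
    fun x hx => by obtain ⟨t, ht⟩ := h.exists_x hx; exact ⟨t, hρ.2.2 x hx t ht⟩,
    fun t => ⟨u t, huM t, huS t, huρ t⟩, hWn, hRn, hWle, hWV, inf_le_left,
    fun x hx => (memMz.1 hx.2).symm, fun w hw => hw.2, hzz, hznS, hQWR, hWR,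
    fun w hw x hx => hw.1.2.1 x hx, hMcR, fun m hm => memMz.1 (hM1z (hM2M1 hm)),
    hAbot, hM2top, hfbij, fun g a b e => hfV g (inclusion hWV a) (inclusion hWV b) e⟩

end Cfsg.Agent.CharP.PushQd
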